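import Groth.Agent.Lib.ProjTilde.Hom
import Groth.Agent.Lib.Modules.Stalk
import Groth.Prelude.Def_GrMod2

/-!
# Functoriality and exactness of `M ↦ M~` on `Proj`, for families of pieces `ℕ → Submodule R M`
(no decomposition of `M` is assumed).
-/

universe u

open CategoryTheory CategoryTheory.Limits AlgebraicGeometry TopologicalSpace Opposite

noncomputable section

namespace Groth.Agent.Lib.ProjTildeExact

variable {R A : Type u} [CommRing R] [CommRing A] [Algebra R A] {𝒜 : ℕ → Submodule R A} [GradedAlgebra 𝒜]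
variable {N : Type u} [AddCommGroup N] [Module R N] [Module A N] {𝒩 : ℕ → Submodule R N} [SetLike.GradedSMul 𝒜 𝒩]
variable {M : Type u} [AddCommGroup M] [Module R M] [Module A M] {ℳ : ℕ → Submodule R M} [SetLike.GradedSMul 𝒜 ℳ]
variable {L : Type u} [AddCommGroup L] [Module R L] [Module A L] {ℒ : ℕ → Submodule R L} [SetLike.GradedSMul 𝒜 ℒ]

/-- `f` shifts the degree by `c`, as far as this matters for fractions of degree `m`. -/
def Shift (𝒩 : ℕ → Submodule R N) (ℳ : ℕ → Submodule R M) (f : N →ₗ[A] M) (c m : ℤ) : Prop :=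
  ∀ (i : ℕ) (x : N), x ∈ 𝒩 i → ∀ j : ℕ, (i : ℤ) + c = j + m →
    (∃ i' : ℕ, (i' : ℤ) = i + c ∧ f x ∈ ℳ i') ∨ f x = 0

/-- The localized map. -/
def locMap (f : N →ₗ[A] M) (x : ProjectiveSpectrum 𝒜) :
    GrTilde.LocMod 𝒜 (M := N) x →ₗ[A] GrTilde.LocMod 𝒜 (M := M) x :=
  IsLocalizedModule.map x.asHomogeneousIdeal.toIdeal.primeCompl
    (LocalizedModule.mkLinearMap _ N) (LocalizedModule.mkLinearMap _ M) f

theorem locMap_mk (f : N →ₗ[A] M) (x : ProjectiveSpectrum 𝒜) (a : N)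
    (s : x.asHomogeneousIdeal.toIdeal.primeCompl) :
    locMap f x (LocalizedModule.mk a s) = LocalizedModule.mk (f a) s := by
  rw [locMap, IsLocalizedModule.mk_eq_mk', IsLocalizedModule.map_mk', ← IsLocalizedModule.mk_eq_mk']

theorem locMap_smul (f : N →ₗ[A] M) (x : ProjectiveSpectrum 𝒜) (c : Twist.Loc 𝒜 x)
    (q : GrTilde.LocMod 𝒜 (M := N) x) : locMap f x (c • q) = c • locMap f x q := by
  induction q using LocalizedModule.induction_on with
  | h a s =>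
    induction c using Localization.induction_on with
    | H p =>
      rw [LocalizedModule.mk_smul_mk, locMap_mk, locMap_mk, LocalizedModule.mk_smul_mk, map_smul]

variable (f : N →ₗ[A] M) {c n n' : ℤ} (hf : Shift 𝒩 ℳ f c n') (hn : n' = n + c)

include hf hn in
theorem locMap_mem {x : ProjectiveSpectrum 𝒜} {q : GrTilde.LocMod 𝒜 (M := N) x}
    (hq : q ∈ GrTilde.tildeAt 𝒜 𝒩 n x) : locMap f x q ∈ GrTilde.tildeAt 𝒜 ℳ n' x := by
  induction hq using Submodule.span_induction with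
  | mem q h =>
    obtain ⟨i, j, a, s, hs, hij, rfl⟩ := h
    rw [locMap_mk]
    rcases hf i a.1 a.2 j (by omega) with ⟨i', hi', hmem⟩ | h0
    · exact Submodule.subset_span ⟨i', j, ⟨_, hmem⟩, s, hs, by omega, rfl⟩
    · rw [h0, LocalizedModule.zero_mk]; exact Submodule.zero_mem _
  | zero => rw [map_zero]; exact Submodule.zero_mem _
  | add p q _ _ hp hq => rw [map_add]; exact Submodule.add_mem _ hp hq
  | smul r q _ hq =>
    rw [GrTilde.a0_smul_def, locMap_smul, ← GrTilde.a0_smul_def]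
    exact Submodule.smul_mem _ r hq

theorem locMap_comp_apply (g : M →ₗ[A] L) (x : ProjectiveSpectrum 𝒜) (q : GrTilde.LocMod 𝒜 (M := N) x) :
    locMap g x (locMap f x q) = locMap (g.comp f) x q := by
  induction q using LocalizedModule.induction_on with
  | h a s => rw [locMap_mk, locMap_mk, locMap_mk]; rfl

theorem locMap_zero_apply (x : ProjectiveSpectrum 𝒜) (q : GrTilde.LocMod 𝒜 (M := N) x) :
    locMap (0 : N →ₗ[A] M) x q = 0 := by
  induction q using LocalizedModule.induction_on with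
  | h a s => rw [locMap_mk, LinearMap.zero_apply, LocalizedModule.zero_mk]

theorem locMap_injective (hinj : Function.Injective f) (x : ProjectiveSpectrum 𝒜) :
    Function.Injective (locMap (𝒜 := 𝒜) f x) :=
  IsLocalizedModule.map_injective x.asHomogeneousIdeal.toIdeal.primeCompl
    (LocalizedModule.mkLinearMap _ N) (LocalizedModule.mkLinearMap _ M) f hinj

theorem locMap_den {x : ProjectiveSpectrum 𝒜} {b : N} {a : M} {v t : A} (hfb : f b = v • a)
    (ht : t ∉ x.asHomogeneousIdeal) (hvt : v * t ∉ x.asHomogeneousIdeal) :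
    locMap f x (LocalizedModule.mk b ⟨v * t, hvt⟩) = LocalizedModule.mk a ⟨t, ht⟩ := by
  rw [locMap_mk, hfb, LocalizedModule.mk_eq]
  refine ⟨1, ?_⟩
  simp only [one_smul, Submonoid.smul_def]
  rw [smul_smul, mul_comm]

theorem exists_kill {x : ProjectiveSpectrum 𝒜} {a : N} {t : x.asHomogeneousIdeal.toIdeal.primeCompl}
    (h : locMap f x (LocalizedModule.mk a t) = 0) : ∃ w : A, w ∉ x.asHomogeneousIdeal ∧ w • f a = 0 := by
  rw [locMap_mk, ← LocalizedModule.zero_mk t, LocalizedModule.mk_eq] at h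
  obtain ⟨u, hu⟩ := h
  simp only [smul_zero, Submonoid.smul_def, smul_smul] at hu
  exact ⟨_, fun h => (x.isPrime.mem_or_mem h).elim u.2 t.2, hu⟩

omit [SetLike.GradedSMul 𝒜 ℳ] in
theorem frac_mem' {x : ProjectiveSpectrum 𝒜} {i j : ℕ} {a : M} {t : A} (ha : a ∈ ℳ i) (ht : t ∈ 𝒜 j)
    (htx : t ∉ x.asHomogeneousIdeal) {m : ℤ} (h : (i : ℤ) = j + m ∨ a = 0) :
    (LocalizedModule.mk a ⟨t, htx⟩ : GrTilde.LocMod 𝒜 (M := M) x) ∈ GrTilde.tildeAt 𝒜 ℳ m x := by
  rcases h with h | rfl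
  · exact Submodule.subset_span ⟨i, j, ⟨a, ha⟩, ⟨t, ht⟩, htx, h, rfl⟩
  · rw [LocalizedModule.zero_mk]; exact Submodule.zero_mem _

include hn in
/-- The map on sections. -/
def secMap (hf : Shift 𝒩 ℳ f c n') {U : Opens (ProjectiveSpectrum.top 𝒜)} (σ : GrTilde.sect 𝒜 𝒩 n (op U)) :
    GrTilde.sect 𝒜 ℳ n' (op U) :=
  ⟨fun x => ⟨locMap f x.1 ((σ.1 x).1), locMap_mem f hf hn (σ.1 x).2⟩, fun x => by
    obtain ⟨V, hxV, iV, i, j, ⟨a, ha⟩, t, nin, hij, hw⟩ := σ.2 x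
    have hval : ∀ y : V, locMap f y.1 ((σ.1 (iV y)).1) = LocalizedModule.mk (f a) ⟨t.1, nin y⟩ := fun y =>
      (congrArg (locMap f y.1) (hw y)).trans (locMap_mk f y.1 a _)
    have hd : (∃ i' : ℕ, (i' : ℤ) = j + n' ∧ f a ∈ ℳ i') ∨ f a = 0 := by
      rcases hij with h | h
      · rcases hf i a ha j (by omega) with ⟨i', hi', hmem⟩ | h0
        · exact Or.inl ⟨i', by omega, hmem⟩
        · exact Or.inr h0
      · exact Or.inr (by rw [show a = 0 from h, map_zero])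
    rcases hd with ⟨i', hi', hmem⟩ | h0
    · exact ⟨V, hxV, iV, i', j, ⟨_, hmem⟩, t, nin, Or.inl hi', hval⟩
    · refine ⟨V, hxV, iV, 0, j, 0, t, nin, Or.inr rfl, fun y => (hval y).trans ?_⟩
      rw [h0]; rfl⟩

/-- The morphism of sheaves induced by a map of graded modules. -/
def tildeMap (f : N →ₗ[A] M) (hf : Shift 𝒩 ℳ f c n') (hn : n' = n + c) :
    GrTilde.tilde 𝒜 𝒩 n ⟶ GrTilde.tilde 𝒜 ℳ n' :=
  ProjTilde.Hom.homMk (M := GrTilde.tilde 𝒜 𝒩 n) (N := GrTilde.tilde 𝒜 ℳ n')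
    (fun _ => AddMonoidHom.mk' (secMap f hn hf) fun σ τ => Subtype.ext (funext fun x =>
      Subtype.ext (map_add (locMap f x.1) ((σ.1 x).1) ((τ.1 x).1))))
    (fun _ r σ => Subtype.ext (funext fun x => Subtype.ext (locMap_smul f x.1 _ ((σ.1 x).1))))
    (fun _ _ _ _ => rfl)

theorem val_tildeMap {U : Opens (ProjectiveSpectrum.top 𝒜)} (σ : Γ(GrTilde.tilde 𝒜 𝒩 n, U)) (x : U) :
    ((((tildeMap f hf hn).app U σ : GrTilde.sect 𝒜 ℳ n' (op U)).1 x).1 : GrTilde.LocMod 𝒜 (M := M) x.1) =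
      locMap f x.1 (((σ : GrTilde.sect 𝒜 𝒩 n (op U)).1 x).1) := rfl

theorem tilde_hom_ext {P : Type u} [AddCommGroup P] [Module R P] [Module A P] {𝒬 : ℕ → Submodule R P}
    [SetLike.GradedSMul 𝒜 𝒬] {m : ℤ} {φ ψ : GrTilde.tilde 𝒜 𝒬 m ⟶ GrTilde.tilde 𝒜 ℳ n'}
    (h : ∀ (U : Opens (ProjectiveSpectrum.top 𝒜)) (σ : Γ(GrTilde.tilde 𝒜 𝒬 m, U)) (x : U),
      ((φ.app U σ : GrTilde.sect 𝒜 ℳ n' (op U)).1 x).1 = ((ψ.app U σ : GrTilde.sect 𝒜 ℳ n' (op U)).1 x).1) :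
    φ = ψ := by
  refine SheafOfModules.Hom.ext (PresheafOfModules.hom_ext fun U => ?_)
  ext σ
  exact Subtype.ext (funext fun x => Subtype.ext (h U.unop σ x))

theorem tildeMap_comp (g : M →ₗ[A] L) {d n'' : ℤ} (hg : Shift ℳ ℒ g d n'') (hn' : n'' = n' + d)
    {e : ℤ} (hgf : Shift 𝒩 ℒ (g.comp f) e n'') (he : n'' = n + e) :
    tildeMap f hf hn ≫ tildeMap g hg hn' = tildeMap (𝒜 := 𝒜) (g.comp f) hgf he := by
  exact tilde_hom_ext fun U σ x => locMap_comp_apply f g x.1 _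

theorem tildeMap_zero (f : N →ₗ[A] M) (hf : Shift 𝒩 ℳ f c n') (hn : n' = n + c) (h : f = 0) :
    tildeMap (𝒜 := 𝒜) f hf hn = 0 := by
  subst h
  exact tilde_hom_ext fun U σ x => locMap_zero_apply (M := M) x.1 _

theorem mono_tildeMap (hinj : Function.Injective f) : Mono (tildeMap (𝒜 := 𝒜) f hf hn) := by
  rw [Modules.Stalk.mono_iff_app_injective]
  intro U σ τ hst
  refine Subtype.ext (funext fun x => Subtype.ext ?_)
  refine locMap_injective f hinj x.1 ?_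
  exact congrArg (fun ρ : GrTilde.sect 𝒜 ℳ n' (op U) => (ρ.1 x).1) hst

/-- Local lifting of sections along a surjection of graded modules. -/
theorem exists_local_lift {U : Opens (ProjectiveSpectrum.top 𝒜)} (σ : Γ(GrTilde.tilde 𝒜 ℳ n', U)) (p : ProjectiveSpectrum 𝒜) (hpU : p ∈ U)
    (hex : ∀ (i j : ℕ) (a : M) (t : A), a ∈ ℳ i → t ∈ 𝒜 j → ∀ htp : t ∉ p.asHomogeneousIdeal,
      (LocalizedModule.mk a (⟨t, htp⟩ : p.asHomogeneousIdeal.toIdeal.primeCompl) :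
          GrTilde.LocMod 𝒜 (M := M) p) = ((σ : GrTilde.sect 𝒜 ℳ n' (op U)).1 ⟨p, hpU⟩).1 →
      ((i : ℤ) = j + n' ∨ a = 0) →
      ∃ (e : ℕ) (v : A) (i₀ : ℕ) (b : N), v ∈ 𝒜 e ∧ v ∉ p.asHomogeneousIdeal ∧ b ∈ 𝒩 i₀ ∧ f b = v • a ∧
        ((i₀ : ℤ) = e + j + n ∨ b = 0)) :
    ∃ (V : Opens (ProjectiveSpectrum.top 𝒜)) (h : V ≤ U), p ∈ V ∧ ∃ τ : Γ(GrTilde.tilde 𝒜 𝒩 n, V),
      (tildeMap f hf hn).app V τ = (GrTilde.tilde 𝒜 ℳ n').presheaf.map (homOfLE h).op σ := by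
  obtain ⟨V, hxV, iV, i, j, ⟨a, ha⟩, ⟨t, ht⟩, nin, hij, hw⟩ := (σ : GrTilde.sect 𝒜 ℳ n' (op U)).2 ⟨p, hpU⟩
  obtain ⟨e, v, i₀, b, hv, hvx, hb, hfb, hdeg⟩ := hex i j a t ha ht (nin ⟨p, hxV⟩) (hw ⟨p, hxV⟩).symm hij
  let V' : Opens (ProjectiveSpectrum.top 𝒜) := V ⊓ ProjectiveSpectrum.basicOpen 𝒜 v
  have hnin : ∀ y : V', v * t ∉ y.1.asHomogeneousIdeal := fun y h =>
    (y.1.isPrime.mem_or_mem h).elim (fun h => y.2.2 h) (nin ⟨y.1, y.2.1⟩)
  have hmem : ∀ y : V', (LocalizedModule.mk b ⟨v * t, hnin y⟩ : GrTilde.LocMod 𝒜 (M := N) y.1) ∈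
      GrTilde.tildeAt 𝒜 𝒩 n y.1 := fun y =>
    frac_mem' hb (SetLike.mul_mem_graded hv ht) (hnin y) (hdeg.imp (fun h => by push_cast; omega) id)
  let τ : GrTilde.sect 𝒜 𝒩 n (op V') := ⟨fun y => ⟨_, hmem y⟩, fun y =>
    ⟨V', y.2, 𝟙 _, i₀, e + j, ⟨b, hb⟩, ⟨v * t, SetLike.mul_mem_graded hv ht⟩, hnin,
      hdeg.imp (fun h => by push_cast; omega) id, fun _ => rfl⟩⟩
  refine ⟨V', fun y hy => iV.le hy.1, ⟨hxV, hvx⟩, τ, ?_⟩
  refine Subtype.ext (funext fun y => Subtype.ext ?_)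
  exact (locMap_den f hfb (nin ⟨y.1, y.2.1⟩) (hnin y)).trans (hw ⟨y.1, y.2.1⟩).symm

/-- `M ↦ M~` sends short exact sequences of graded modules to short exact sequences. -/
theorem shortExact_tilde (g : M →ₗ[A] L) {n : ℤ} (hf : Shift 𝒩 ℳ f 0 n) (hg : Shift ℳ ℒ g 0 n)
    (hinj : Function.Injective f) (hgf : g.comp f = 0)
    (hker : ∀ (i : ℕ) (a : M), a ∈ ℳ i → g a = 0 → ∃ b ∈ 𝒩 i, f b = a)
    (hsurj : ∀ (i : ℕ) (a : L), a ∈ ℒ i → ∃ b ∈ ℳ i, g b = a)
    (hom : ∀ (i : ℕ) (a : L), a ∈ ℒ i → ∀ u : A, u • a = 0 → ∀ e : ℕ,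
      (DirectSum.decompose 𝒜 u e : A) • a = 0) :
    (ShortComplex.mk (tildeMap (𝒜 := 𝒜) (n := n) (n' := n) f hf (add_zero n).symm)
      (tildeMap (n' := n) g hg (add_zero n).symm)
      ((tildeMap_comp f hf _ g hg _ (e := 0) (fun i x _ _ _ => Or.inr (by rw [hgf]; rfl)) (add_zero n).symm).trans
        (tildeMap_zero _ _ _ hgf))).ShortExact := by
  haveI := mono_tildeMap (𝒜 := 𝒜) (n := n) (n' := n) f hf (add_zero n).symm hinj
  have hone : ∀ x : ProjectiveSpectrum 𝒜, (1 : A) ∉ x.asHomogeneousIdeal := fun x h =>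
    x.isPrime.ne_top ((Ideal.eq_top_iff_one _).mpr h)
  refine ShortComplex.ShortExact.mk' ((Modules.Stalk.exact_iff_stalk _).2 fun p => ?_) inferInstance ?_
  · rw [ShortComplex.ab_exact_iff]
    intro z hz
    obtain ⟨U, hpU, σ, rfl⟩ := TopCat.Presheaf.exists_germ_eq (GrTilde.tilde 𝒜 ℳ n).presheaf z
    have hz' : (GrTilde.tilde 𝒜 ℒ n).presheaf.germ U p hpU
        ((tildeMap (𝒜 := 𝒜) (n := n) (n' := n) g hg (add_zero n).symm).app U σ) =
      (GrTilde.tilde 𝒜 ℒ n).presheaf.germ U p hpU 0 :=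
      ((TopCat.Presheaf.stalkFunctor_map_germ_apply U p hpU
        (tildeMap (𝒜 := 𝒜) (n := n) (n' := n) g hg (add_zero n).symm).mapPresheaf σ).symm.trans hz).trans
        (map_zero _).symm
    obtain ⟨W, hpW, iW, iW', heq⟩ := TopCat.Presheaf.germ_eq _ p hpU hpU _ _ hz'
    rw [map_zero] at heq
    obtain ⟨V, hVW, hpV, τ, hτ⟩ := exists_local_lift f hf (n := n) (add_zero n).symm
      ((GrTilde.tilde 𝒜 ℳ n).presheaf.map iW.op σ) p hpW fun i j a t ha _ htp hval hij => by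
        have h0 : locMap g p (LocalizedModule.mk a ⟨t, htp⟩) = 0 := by
          rw [hval]
          exact congrArg (fun ρ : GrTilde.sect 𝒜 ℒ n (op W) => (ρ.1 ⟨p, hpW⟩).1) heq
        obtain ⟨w, hw', hu⟩ := exists_kill g h0
        by_cases ha0 : a = 0
        · exact ⟨0, 1, 0, 0, SetLike.GradedOne.one_mem, hone p, Submodule.zero_mem _, by simp [ha0], Or.inr rfl⟩
        have hut : w ∉ p.asHomogeneousIdeal := hw'
        obtain ⟨e, he⟩ : ∃ e, (DirectSum.decompose 𝒜 (w) e : A) ∉ p.asHomogeneousIdeal := by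
          classical
          by_contra h'
          push Not at h'
          apply hut
          rw [← DirectSum.sum_support_decompose 𝒜 (w)]
          exact Ideal.sum_mem _ fun i _ => h' i
        rcases hg i a ha j (by rcases hij with h | h <;> [omega; exact absurd h ha0]) with ⟨i', hi', hga⟩ | hga
        · have hkill := hom i' (g a) hga _ hu e
          have hmem : (DirectSum.decompose 𝒜 (w) e : A) • a ∈ ℳ (e + i) :=
            SetLike.GradedSMul.smul_mem (DirectSum.decompose 𝒜 w e).2 ha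
          obtain ⟨b, hb, hfb⟩ := hker _ _ hmem (by rw [map_smul, hkill])
          exact ⟨e, _, e + i, b, SetLike.coe_mem _, he, hb, hfb,
            Or.inl (by push_cast; rcases hij with h | h <;> [omega; exact absurd h ha0])⟩
        · obtain ⟨b, hb, hfb⟩ := hker i a ha hga
          exact ⟨0, 1, i, b, SetLike.GradedOne.one_mem, hone p, hb, by rw [one_smul, hfb],
            Or.inl (by rcases hij with h | h <;> [omega; exact absurd h ha0])⟩
    refine ⟨(GrTilde.tilde 𝒜 𝒩 n).presheaf.germ V p hpV τ, ?_⟩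
    refine (TopCat.Presheaf.stalkFunctor_map_germ_apply V p hpV
      (tildeMap (𝒜 := 𝒜) (n := n) (n' := n) f hf (add_zero n).symm).mapPresheaf τ).trans ?_
    refine (congrArg ((GrTilde.tilde 𝒜 ℳ n).presheaf.germ V p hpV) hτ).trans ?_
    exact (TopCat.Presheaf.germ_res_apply _ _ _ _ _).trans (TopCat.Presheaf.germ_res_apply _ _ _ _ _)
  · refine (Modules.Stalk.epi_iff_stalk_surjective _).2 fun p z => ?_
    obtain ⟨U, hpU, σ, rfl⟩ := TopCat.Presheaf.exists_germ_eq (GrTilde.tilde 𝒜 ℒ n).presheaf z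
    obtain ⟨V, hVU, hpV, τ, hτ⟩ := exists_local_lift g hg (n := n) (add_zero n).symm σ p hpU
      fun i j a t ha _ _ _ hij => by
        obtain ⟨b, hb, hgb⟩ := hsurj i a ha
        rcases hij with h | h
        · exact ⟨0, 1, i, b, SetLike.GradedOne.one_mem, hone p, hb, by rw [one_smul, hgb], Or.inl (by omega)⟩
        · exact ⟨0, 1, 0, 0, SetLike.GradedOne.one_mem, hone p, Submodule.zero_mem _, by simp [h], Or.inr rfl⟩
    refine ⟨(GrTilde.tilde 𝒜 ℳ n).presheaf.germ V p hpV τ, ?_⟩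
    refine (TopCat.Presheaf.stalkFunctor_map_germ_apply V p hpV
      (tildeMap (𝒜 := 𝒜) (n := n) (n' := n) g hg (add_zero n).symm).mapPresheaf τ).trans ?_
    exact (congrArg ((GrTilde.tilde 𝒜 ℒ n).presheaf.germ V p hpV) hτ).trans
      (TopCat.Presheaf.germ_res_apply _ _ _ _ _)

end Groth.Agent.Lib.ProjTildeExact
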