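import Groth.Agent.Lib.ProjTildeExact.Basic
import Groth.Agent.Lib.ProjKoszul.Reg2
import Groth.Agent.Lib.ProjTilde.Tensor
import Groth.Agent.Lib.Snapper.DimBound
import Groth.Agent.Lib.Snapper.Chi
import Groth.Agent.Lib.ProjSpace.Basic
import Groth.Prelude.Def_GrSyz

/-!
# A graded free resolution bounds the Castelnuovo–Mumford regularity of the sheaf
-/

universe u

open CategoryTheory CategoryTheory.Limits AlgebraicGeometry TopologicalSpace Opposite DirectSum

noncomputable section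

namespace Groth.Agent.Lib.ProjTildeExact.PolyReg

open Groth.Agent.Lib Groth.Agent.Lib.ProjCoh.Coherent Groth.Agent.Lib.ProjCoh.Sections

variable {k : Type u} [Field k] {r : ℕ}


theorem weight_one (d : Fin (r + 1) →₀ ℕ) :
    Finsupp.weight (fun _ : Fin (r + 1) => (1 : ℤ)) d = (d.degree : ℤ) := by
  rw [Finsupp.weight_apply, Finsupp.sum, Finsupp.degree_apply]
  simp

theorem mem_std_natCast {n : ℕ} {p : (MvPolynomial (Fin (r + 1)) k)} : p ∈ (GrSyz.stdGr k (Fin (r + 1))) (n : ℤ) ↔ p ∈ (CohB1.polyGrading r k) n := by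
  rw [GrSyz.mem_stdGr_iff, MvPolynomial.mem_homogeneousSubmodule]
  have e : ∀ d : Fin (r + 1) →₀ ℕ, Finsupp.weight (1 : Fin (r + 1) → ℕ) d = d.degree := fun d => by
    rw [Finsupp.degree_eq_weight_one]; rfl
  constructor <;> intro h d hd <;> have := h hd
  · rw [weight_one] at this
    rw [e]
    exact_mod_cast this
  · rw [weight_one]
    rw [e] at this
    exact_mod_cast this

theorem eq_zero_of_mem_std_neg {m : ℤ} (hm : m < 0) {p : (MvPolynomial (Fin (r + 1)) k)} (h : p ∈ (GrSyz.stdGr k (Fin (r + 1))) m) : p = 0 := by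
  rw [GrSyz.mem_stdGr_iff] at h
  refine MvPolynomial.ext _ _ fun d => ?_
  by_contra hd
  rw [MvPolynomial.coeff_zero] at hd
  have := h hd
  rw [weight_one] at this
  omega

theorem mem_std_cases {m : ℤ} {p : (MvPolynomial (Fin (r + 1)) k)} (h : p ∈ (GrSyz.stdGr k (Fin (r + 1))) m) :
    (∃ i : ℕ, (i : ℤ) = m ∧ p ∈ (CohB1.polyGrading r k) i) ∨ p = 0 := by
  rcases lt_or_ge m 0 with h' | h'
  · exact Or.inr (eq_zero_of_mem_std_neg h' h)
  · exact Or.inl ⟨m.toNat, Int.toNat_of_nonneg h', mem_std_natCast.1 (by rwa [Int.toNat_of_nonneg h'])⟩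

variable {q : ℕ}

variable (k r) in

/-- The pieces of a shifted free module. -/
def freeGr (deg : Fin q → ℤ) (n : ℕ) : Submodule k (Fin q → (MvPolynomial (Fin (r + 1)) k)) :=
  Submodule.pi Set.univ fun b => (GrSyz.stdGr k (Fin (r + 1))) ((n : ℤ) - deg b)


theorem mem_freeGr {deg : Fin q → ℤ} {n : ℕ} {v : Fin q → (MvPolynomial (Fin (r + 1)) k)} :
    v ∈ (freeGr k r) deg n ↔ ∀ b, v b ∈ (GrSyz.stdGr k (Fin (r + 1))) ((n : ℤ) - deg b) := by simp [freeGr]

instance gradedSMul_free (deg : Fin q → ℤ) : SetLike.GradedSMul (CohB1.polyGrading r k) ((freeGr k r) deg) where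
  smul_mem {i j p v} hp hv := mem_freeGr.2 fun b => by
    change p * v b ∈ _
    have := SetLike.mul_mem_graded (mem_std_natCast.2 hp) (mem_freeGr.1 hv b)
    rwa [show (i : ℤ) + ((j : ℤ) - deg b) = ((i +ᵥ j : ℕ) : ℤ) - deg b by
      rw [vadd_eq_add]; push_cast; ring] at this

/-- The pieces of a submodule of a shifted free module. -/
def subGr (deg : Fin q → ℤ) (N : Submodule (MvPolynomial (Fin (r + 1)) k) (Fin q → (MvPolynomial (Fin (r + 1)) k))) (n : ℕ) : Submodule k N :=
  ((freeGr k r) deg n).comap (N.subtype.restrictScalars k)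

instance gradedSMul_sub (deg : Fin q → ℤ) (N : Submodule (MvPolynomial (Fin (r + 1)) k) (Fin q → (MvPolynomial (Fin (r + 1)) k))) :
    SetLike.GradedSMul (CohB1.polyGrading r k) (subGr deg N) where
  smul_mem {_ _ p v} hp hv := SetLike.GradedSMul.smul_mem (B := freeGr k r deg) hp hv

/-- The projection to a component. -/
def projMap (deg : Fin q → ℤ) (b : Fin q) :
    GrTilde.tilde (CohB1.polyGrading r k) ((freeGr k r) deg) 0 ⟶ TS r k (-deg b) :=
  tildeMap (LinearMap.proj b : (Fin q → (MvPolynomial (Fin (r + 1)) k)) →ₗ[(MvPolynomial (Fin (r + 1)) k)] (MvPolynomial (Fin (r + 1)) k)) (c := -deg b)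
    (fun i v hv _ _ => (mem_std_cases (mem_freeGr.1 hv b)).imp
      (fun ⟨i', h, hm⟩ => ⟨i', by omega, hm⟩) id) (by ring)

/-- The inclusion of a component. -/
def singleMap (deg : Fin q → ℤ) (b : Fin q) :
    TS r k (-deg b) ⟶ GrTilde.tilde (CohB1.polyGrading r k) ((freeGr k r) deg) 0 :=
  tildeMap (LinearMap.single (MvPolynomial (Fin (r + 1)) k) (fun _ : Fin q => (MvPolynomial (Fin (r + 1)) k)) b) (c := deg b)
    (fun i v hv j hj => Or.inl ⟨j, by omega, mem_freeGr.2 fun b' => by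
      by_cases hb : b' = b
      · subst hb
        rw [LinearMap.single_apply, Pi.single_eq_same, show (j : ℤ) - deg b' = i by omega]
        exact mem_std_natCast.2 hv
      · rw [LinearMap.single_apply, Pi.single_eq_of_ne hb]
        exact Submodule.zero_mem _⟩) (by ring)

theorem tilde_app_add {M : Type u} [AddCommGroup M] [Module k M] [Module (MvPolynomial (Fin (r + 1)) k) M] {ℳ : ℕ → Submodule k M}
    [SetLike.GradedSMul (CohB1.polyGrading r k) ℳ] {n : ℤ} {X : (Proj (CohB1.polyGrading r k)).Modules} {ι : Type} (s : Finset ι)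
    (φ : ι → (X ⟶ GrTilde.tilde (CohB1.polyGrading r k) ℳ n)) (U : Opens (ProjectiveSpectrum.top (CohB1.polyGrading r k))) (σ : Γ(X, U)) (x : U) :
    (((∑ i ∈ s, φ i).app U σ : GrTilde.sect (CohB1.polyGrading r k) ℳ n (op U)).1 x).1 =
      ∑ i ∈ s, (((φ i).app U σ : GrTilde.sect (CohB1.polyGrading r k) ℳ n (op U)).1 x).1 :=
  map_sum (AddMonoidHom.mk' (fun ψ : X ⟶ GrTilde.tilde (CohB1.polyGrading r k) ℳ n =>
    ((ψ.app U σ : GrTilde.sect (CohB1.polyGrading r k) ℳ n (op U)).1 x).1) fun _ _ => rfl) φ s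

theorem sum_proj_single_apply (x : ProjectiveSpectrum (CohB1.polyGrading r k))
    (z : GrTilde.LocMod (CohB1.polyGrading r k) (M := Fin q → (MvPolynomial (Fin (r + 1)) k)) x) :
    ∑ b : Fin q, locMap (LinearMap.single (MvPolynomial (Fin (r + 1)) k) (fun _ : Fin q => (MvPolynomial (Fin (r + 1)) k)) b) x
      (locMap (LinearMap.proj b : (Fin q → (MvPolynomial (Fin (r + 1)) k)) →ₗ[(MvPolynomial (Fin (r + 1)) k)] (MvPolynomial (Fin (r + 1)) k)) x z) = z := by
  induction z using LocalizedModule.induction_on with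
  | h a s =>
    refine (Finset.sum_congr rfl fun b _ => ((congrArg _ (locMap_mk _ x a s)).trans (locMap_mk _ x _ s)).trans
      (IsLocalizedModule.mk_eq_mk' s _)).trans ?_
    rw [IsLocalizedModule.mk_eq_mk']
    refine (map_sum (AddMonoidHom.mk' (fun a => IsLocalizedModule.mk' (LocalizedModule.mkLinearMap x.asHomogeneousIdeal.toIdeal.primeCompl (Fin q → (MvPolynomial (Fin (r + 1)) k))) a s)
      fun a b => IsLocalizedModule.mk'_add _ a b s) _ _).symm.trans ?_
    exact congrArg (fun a => IsLocalizedModule.mk' (LocalizedModule.mkLinearMap x.asHomogeneousIdeal.toIdeal.primeCompl (Fin q → (MvPolynomial (Fin (r + 1)) k))) a s)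
      (Finset.univ_sum_single a)

theorem sum_proj_single (deg : Fin q → ℤ) :
    ∑ b, projMap (k := k) (r := r) deg b ≫ singleMap deg b = 𝟙 _ :=
  tilde_hom_ext fun U σ x => (tilde_app_add _ _ U σ x).trans (sum_proj_single_apply x.1 _)

/-- `TS(a)(t) ≅ TS(a + t)`. -/
def tsTensor (a t : ℤ) : CohB1.tensorMod (TS r k a) (tw r k t) ≅ TS r k (a + t) :=
  ProjTilde.Tensor.tensorTwistIso hcov a t

theorem subsingleton_free (deg : Fin q → ℤ) {t : ℤ} {i : ℕ} (hi : 1 ≤ i)
    (h : ∀ b, -(i : ℤ) ≤ -deg b + t) :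
    Subsingleton (Coh.HH (CohB1.ProjSpace r k) (CohB1.tensorMod (GrTilde.tilde (CohB1.polyGrading r k) ((freeGr k r) deg) 0) (tw r k t)) i) := by
  rw [← ProjKoszul.Chase.isZero_cohFun_iff k, IsZero.iff_id_eq_zero]
  let G := TensorMod.Basic.tensorBy (tw r k t) ⋙ ProjKoszul.Chase.cohFun (X := CohB1.ProjSpace r k) k i
  let P : (CohB1.ProjSpace r k).Modules := GrTilde.tilde (CohB1.polyGrading r k) (freeGr k r deg) 0
  let φ : Fin q → (P ⟶ P) := fun b => projMap deg b ≫ singleMap deg b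
  change 𝟙 (G.obj P) = 0
  refine (G.map_id P).symm.trans (((congrArg G.map (sum_proj_single deg)).symm.trans (G.map_sum φ Finset.univ)).trans ?_)
  refine Finset.sum_eq_zero fun b _ => ?_
  have hz : IsZero (G.obj (TS r k (-deg b))) := by
    refine (ProjKoszul.Chase.isZero_cohFun_iff k).2 (ProjKoszul.Chase.subsingleton_of_iso k (tsTensor _ t).symm ?_)
    by_cases hir : i ≤ r
    · exact ProjCoh.Twist.subsingleton_HH_of_neg_le r k (by have := h b; omega) (by omega)
    · exact ProjCoh.Twist.subsingleton_HH_of_ne r k _ (by omega) (by omega)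
  exact (G.map_comp (projMap deg b) (singleMap deg b)).trans
    (by rw [hz.eq_of_tgt (G.map (projMap deg b)) 0, zero_comp])

section Resolution

variable {M : Type u} [AddCommGroup M] [Module k M] [Module (MvPolynomial (Fin (r + 1)) k) M] [IsScalarTower k (MvPolynomial (Fin (r + 1)) k) M]
  {ℳ : ℤ → Submodule k M} [DirectSum.Decomposition ℳ] [SetLike.GradedSMul (GrSyz.stdGr k (Fin (r + 1))) ℳ]
  [SetLike.GradedSMul (CohB1.polyGrading r k) (fun n : ℕ => ℳ (n : ℤ))] (F : GrSyz.FreeRes (GrSyz.stdGr k (Fin (r + 1))) ℳ)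

theorem coe_decompose_mul {a b : (MvPolynomial (Fin (r + 1)) k)} {i : ℤ} (ha : a ∈ (GrSyz.stdGr k (Fin (r + 1))) i) (n : ℤ) :
    (decompose (GrSyz.stdGr k (Fin (r + 1))) (a * b) n : (MvPolynomial (Fin (r + 1)) k)) = a * decompose (GrSyz.stdGr k (Fin (r + 1))) b (n - i) := by
  have h := coe_decompose_mul_add_of_left_mem (GrSyz.stdGr k (Fin (r + 1))) (j := n - i) (b := b) ha
  rwa [add_sub_cancel] at h

theorem coe_decompose_sum {N : Type*} [AddCommGroup N] [Module k N] (𝒩 : ℤ → Submodule k N)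
    [DirectSum.Decomposition 𝒩] {ι : Type*} (s : Finset ι) (f : ι → N) (n : ℤ) :
    (decompose 𝒩 (∑ i ∈ s, f i) n : N) = ∑ i ∈ s, (decompose 𝒩 (f i) n : N) := by
  rw [decompose_sum, DFinsupp.finset_sum_apply, AddSubmonoidClass.coe_finset_sum]

theorem coe_decompose_smul {p : (MvPolynomial (Fin (r + 1)) k)} {i : ℤ} {m : M} (hm : m ∈ ℳ i) (n : ℤ) :
    (decompose ℳ (p • m) n : M) = (decompose (GrSyz.stdGr k (Fin (r + 1))) p (n - i) : (MvPolynomial (Fin (r + 1)) k)) • m := by
  classical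
  conv_lhs => rw [← sum_support_decompose (GrSyz.stdGr k (Fin (r + 1))) p, Finset.sum_smul]
  rw [coe_decompose_sum, Finset.sum_eq_single (n - i)]
  · refine decompose_of_mem_same ℳ ?_
    have := SetLike.GradedSMul.smul_mem (B := ℳ) (decompose (GrSyz.stdGr k (Fin (r + 1))) p (n - i)).2 hm
    rwa [vadd_eq_add, sub_add_cancel] at this
  · intro e _ he
    refine decompose_of_mem_ne ℳ (SetLike.GradedSMul.smul_mem (B := ℳ) (decompose (GrSyz.stdGr k (Fin (r + 1))) p e).2 hm) ?_
    rw [vadd_eq_add]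
    omega
  · intro he
    rw [DFinsupp.notMem_support_iff.mp he]
    simp

/-- The family of degree components of a vector. -/
def comp (deg : Fin q → ℤ) (n : ℕ) (v : Fin q → (MvPolynomial (Fin (r + 1)) k)) : Fin q → (MvPolynomial (Fin (r + 1)) k) :=
  fun b => (decompose (GrSyz.stdGr k (Fin (r + 1))) (v b) ((n : ℤ) - deg b) : (MvPolynomial (Fin (r + 1)) k))

theorem comp_mem (deg : Fin q → ℤ) (n : ℕ) (v : Fin q → (MvPolynomial (Fin (r + 1)) k)) : comp deg n v ∈ (freeGr k r) deg n :=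
  mem_freeGr.2 fun b => (decompose (GrSyz.stdGr k (Fin (r + 1))) (v b) ((n : ℤ) - deg b)).2

theorem dLin_comp (i n : ℕ) {v : Fin (F.rk (i + 1)) → (MvPolynomial (Fin (r + 1)) k)} (h : F.dLin i v ∈ (freeGr k r) (F.deg i) n) :
    F.dLin i (comp (F.deg (i + 1)) n v) = F.dLin i v := by
  funext a
  have ha := decompose_of_mem_same (GrSyz.stdGr k (Fin (r + 1))) (mem_freeGr.1 h a)
  refine Eq.trans ?_ ha
  change ∑ b, F.d i a b * comp (F.deg (i + 1)) n v b = (decompose (GrSyz.stdGr k (Fin (r + 1))) (∑ b, F.d i a b * v b) _ : (MvPolynomial (Fin (r + 1)) k))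
  rw [coe_decompose_sum]
  refine Finset.sum_congr rfl fun b _ => ?_
  rw [coe_decompose_mul (F.d_mem i a b)]
  simp only [comp]
  rw [show (n : ℤ) - F.deg i a - (F.deg (i + 1) b - F.deg i a) = (n : ℤ) - F.deg (i + 1) b by ring]

theorem augLin_comp (n : ℕ) {v : Fin (F.rk 0) → (MvPolynomial (Fin (r + 1)) k)} (h : F.augLin v ∈ ℳ (n : ℤ)) :
    F.augLin (comp (F.deg 0) n v) = F.augLin v := by
  refine Eq.trans ?_ (decompose_of_mem_same ℳ h)
  rw [Fintype.linearCombination_apply, Fintype.linearCombination_apply, coe_decompose_sum]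
  exact Finset.sum_congr rfl fun b _ => (coe_decompose_smul (F.aug_mem b) _).symm

theorem dLin_shift (i : ℕ) : Shift ((freeGr k r) (F.deg (i + 1))) ((freeGr k r) (F.deg i)) (F.dLin i) 0 0 := by
  intro n v hv _ _
  refine Or.inl ⟨n, by simp, mem_freeGr.2 fun a => ?_⟩
  change ∑ b, F.d i a b * v b ∈ _
  refine Submodule.sum_mem _ fun b _ => ?_
  have := SetLike.mul_mem_graded (F.d_mem i a b) (mem_freeGr.1 hv b)
  rwa [show F.deg (i + 1) b - F.deg i a + ((n : ℤ) - F.deg (i + 1) b) = (n : ℤ) - F.deg i a by ring] at this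

/-- The syzygy module in `F_i`. -/
abbrev syz (i : ℕ) : Submodule (MvPolynomial (Fin (r + 1)) k) (Fin (F.rk i) → (MvPolynomial (Fin (r + 1)) k)) := LinearMap.range (F.dLin i)

/-- Its sheaf. -/
abbrev syzT (i : ℕ) : (CohB1.ProjSpace r k).Modules := GrTilde.tilde (CohB1.polyGrading r k) (subGr (F.deg i) (syz F i)) 0

theorem exists_shortExact_syz (s : ℕ) : ∃ S : ShortComplex (CohB1.ProjSpace r k).Modules, S.ShortExact ∧
    S.X₁ = syzT F (s + 1) ∧ S.X₂ = GrTilde.tilde (CohB1.polyGrading r k) ((freeGr k r) (F.deg (s + 1))) 0 ∧ S.X₃ = syzT F s := by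
  refine ⟨_, shortExact_tilde (𝒩 := subGr (F.deg (s + 1)) (syz F (s + 1))) (ℳ := (freeGr k r) (F.deg (s + 1)))
    (ℒ := subGr (F.deg s) (syz F s)) (syz F (s + 1)).subtype (F.dLin s).rangeRestrict (n := 0)
    (fun n v hv _ _ => Or.inl ⟨n, by simp, hv⟩) (fun n v hv j hj => ?_) Subtype.val_injective ?_ ?_ ?_ ?_, rfl, rfl, rfl⟩
  · exact (dLin_shift F s n v hv j hj).imp (fun ⟨i', h, hm⟩ => ⟨i', h, hm⟩) fun h => Subtype.ext h
  · refine LinearMap.ext fun v => Subtype.ext ?_
    exact (F.exact_succ s).ge v.2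
  · intro n a ha h
    exact ⟨⟨a, (F.exact_succ s).le (congrArg Subtype.val h : F.dLin s a = 0)⟩, ha, rfl⟩
  · rintro n ⟨_, w, rfl⟩ ha
    exact ⟨comp (F.deg (s + 1)) n w, comp_mem _ _ _, Subtype.ext (dLin_comp F s n ha)⟩
  · intro n a ha u hu e
    rcases smul_eq_zero.1 (congrArg Subtype.val hu) with h | h
    · rw [h, decompose_zero]; simp
    · rw [show a = 0 from Subtype.ext h, smul_zero]

theorem exists_shortExact_aug : ∃ S : ShortComplex (CohB1.ProjSpace r k).Modules, S.ShortExact ∧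
    S.X₁ = syzT F 0 ∧ S.X₂ = GrTilde.tilde (CohB1.polyGrading r k) ((freeGr k r) (F.deg 0)) 0 ∧
    S.X₃ = GrTilde.tilde (CohB1.polyGrading r k) (fun n : ℕ => ℳ (n : ℤ)) 0 := by
  refine ⟨_, shortExact_tilde (𝒩 := subGr (F.deg 0) (syz F 0)) (ℳ := (freeGr k r) (F.deg 0))
    (ℒ := fun n : ℕ => ℳ (n : ℤ)) (syz F 0).subtype F.augLin (n := 0)
    (fun n v hv _ _ => Or.inl ⟨n, by simp, hv⟩) (fun n v hv j hj => ?_) Subtype.val_injective ?_ ?_ ?_ ?_, rfl, rfl, rfl⟩
  · refine Or.inl ⟨n, by simp, ?_⟩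
    rw [Fintype.linearCombination_apply]
    refine Submodule.sum_mem _ fun b _ => ?_
    have := SetLike.GradedSMul.smul_mem (B := ℳ) (mem_freeGr.1 hv b) (F.aug_mem b)
    rwa [vadd_eq_add, sub_add_cancel] at this
  · exact LinearMap.ext fun v => F.exact_zero.ge v.2
  · intro n a ha h
    exact ⟨⟨a, F.exact_zero.le h⟩, ha, rfl⟩
  · intro n a ha
    obtain ⟨w, rfl⟩ := F.aug_surjective a
    exact ⟨comp (F.deg 0) n w, comp_mem _ _ _, augLin_comp F n ha⟩
  · intro n a ha u hu e
    have hdec : (decompose (CohB1.polyGrading r k) u e : (MvPolynomial (Fin (r + 1)) k)) = (decompose (GrSyz.stdGr k (Fin (r + 1))) u (e : ℤ) : (MvPolynomial (Fin (r + 1)) k)) := by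
      classical
      conv_rhs => rw [← sum_support_decompose (CohB1.polyGrading r k) u, coe_decompose_sum]
      rw [Finset.sum_eq_single e]
      · exact (decompose_of_mem_same (GrSyz.stdGr k (Fin (r + 1))) (mem_std_natCast.2 (decompose (CohB1.polyGrading r k) u e).2)).symm
      · intro e' _ he
        exact decompose_of_mem_ne (GrSyz.stdGr k (Fin (r + 1))) (mem_std_natCast.2 (decompose (CohB1.polyGrading r k) u e').2) (by exact_mod_cast he)
      · intro he
        rw [DFinsupp.notMem_support_iff.mp he]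
        simp
    have h := coe_decompose_smul (p := u) (show a ∈ ℳ (n : ℤ) from ha) ((e : ℤ) + n)
    rw [hu, decompose_zero, add_sub_cancel_right] at h
    rw [hdec, ← h]
    simp

/-- A resolution generated in degrees `≤ d + i` gives a `d`-regular sheaf. -/
theorem subsingleton_of_isGenLE {d : ℤ} (hF : F.IsGenLE d) {i : ℕ} (hi : 1 ≤ i) :
    Subsingleton (Coh.HH (CohB1.ProjSpace r k)
      (CohB1.tensorMod (GrTilde.tilde (CohB1.polyGrading r k) (fun n : ℕ => ℳ (n : ℤ)) 0) (tw r k (d - i))) i) := by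
  haveI : IsProper (CohB1.ProjSpace r k ↘ Spec (CommRingCat.of k)) := ProjSpace.Basic.isProper_toSpec r k
  obtain ⟨N, hN⟩ := Snapper.DimBound.exists_dim_bound k (CohB1.ProjSpace r k)
  haveI := Curves.GlobalSections.isNoetherian_of_proper k (CohB1.ProjSpace r k)
  have key : ∀ (b s i : ℕ), N < i + b → 1 ≤ i → Subsingleton (Coh.HH (CohB1.ProjSpace r k)
      (CohB1.tensorMod (syzT F s) (tw r k (d + s + 1 - i))) i) := by
    intro b
    induction b with
    | zero => exact fun s i hi' _ => Snapper.Chi.subsingleton_HH_of_lt hN _ (by omega)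
    | succ b ih =>
      intro s i hb hi
      obtain ⟨S, hS, h1, h2, h3⟩ := exists_shortExact_syz F s
      rw [← h3]
      refine ProjKoszul.Reg2.sub₃ k (shortExact_tw hS (d + s + 1 - i)) ?_ ?_
      · change Subsingleton (Coh.HH _ (CohB1.tensorMod S.X₂ _) i)
        rw [h2]
        exact subsingleton_free _ hi fun c => by have := hF (s + 1) c; push_cast at this; omega
      · change Subsingleton (Coh.HH _ (CohB1.tensorMod S.X₁ _) (i + 1))
        rw [h1]
        have := ih (s + 1) (i + 1) (by omega) (by omega)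
        rwa [show d + ((s + 1 : ℕ) : ℤ) + 1 - ((i + 1 : ℕ) : ℤ) = d + s + 1 - i by push_cast; ring] at this
  obtain ⟨S, hS, h1, h2, h3⟩ := exists_shortExact_aug F
  rw [← h3]
  refine ProjKoszul.Reg2.sub₃ k (shortExact_tw hS (d - i)) ?_ ?_
  · change Subsingleton (Coh.HH _ (CohB1.tensorMod S.X₂ _) i)
    rw [h2]
    exact subsingleton_free _ hi fun c => by have := hF 0 c; push_cast at this; omega
  · change Subsingleton (Coh.HH _ (CohB1.tensorMod S.X₁ _) (i + 1))
    rw [h1]
    have := key (N + 1) 0 (i + 1) (by omega) (by omega)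
    rwa [show d + ((0 : ℕ) : ℤ) + 1 - ((i + 1 : ℕ) : ℤ) = d - i by push_cast; ring] at this

end Resolution

end Groth.Agent.Lib.ProjTildeExact.PolyReg
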